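import Mathlib

/-!
Fixed-point-free elements of prime order in transitive groups of degree `m * p`, `m ≤ p`, or `p ^ k`.
-/
set_option autoImplicit false

namespace CfsgLib.PermFpf

variable {G Ω : Type*} [Group G] [MulAction G Ω]

/-- In a transitive action, the degree divides the Sylow index times each orbit length of the Sylow subgroup. -/
theorem card_dvd_index_mul [Finite G] [MulAction.IsPretransitive G Ω] (P : Subgroup G) (ω : Ω) :
    Nat.card Ω ∣ P.index * (MulAction.stabilizer P ω).index := by
  have h1 : MulAction.stabilizer P ω = (MulAction.stabilizer G ω).subgroupOf P := by ext; rfl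
  have h2 : (MulAction.stabilizer P ω).index = (MulAction.stabilizer G ω ⊓ P).relIndex P := by
    rw [Subgroup.inf_relIndex_right, h1]; rfl
  rw [h2, mul_comm, Subgroup.relIndex_mul_index inf_le_right,
    ← MulAction.index_stabilizer_of_transitive G ω]
  exact Subgroup.index_dvd_of_le inf_le_left

/-- A non-trivial finite `p`-group acting faithfully and transitively has a fixed-point-free element of order `p`. -/
theorem exists_fpf_of_pGroup_transitive [Finite G] [FaithfulSMul G Ω] [MulAction.IsPretransitive G Ω]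
    (p : ℕ) [hp : Fact p.Prime] (hG : IsPGroup p G) [Nontrivial G] :
    ∃ g : G, orderOf g = p ∧ ∀ ω : Ω, g • ω ≠ ω := by
  have hnt : Nontrivial (Subgroup.center G) := hG.center_nontrivial
  obtain ⟨n, hn, hcard⟩ := (hG.to_subgroup (Subgroup.center G)).nontrivial_iff_card.mp hnt
  obtain ⟨z, hz⟩ := exists_prime_orderOf_dvd_card' (G := Subgroup.center G) p
    (hcard ▸ dvd_pow_self p (by omega))
  have hzo : orderOf (z : G) = p := by rw [← hz, Subgroup.orderOf_coe]
  refine ⟨z, hzo, fun ω hω => hp.out.ne_one ?_⟩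
  have : (z : G) = 1 := by
    apply FaithfulSMul.eq_of_smul_eq_smul (α := Ω)
    intro x
    obtain ⟨h, rfl⟩ := MulAction.exists_smul_eq G ω x
    rw [one_smul, smul_smul, ← (Subgroup.mem_center_iff.mp z.2 h), mul_smul, hω]
  rw [← hzo, this, orderOf_one]

theorem exists_fpf_prime_pow [Finite G] [FaithfulSMul G Ω] [Finite Ω] [MulAction.IsPretransitive G Ω]
    (p k : ℕ) [hp : Fact p.Prime] (hk : 1 ≤ k) (hΩ : Nat.card Ω = p ^ k) :
    ∃ g : G, orderOf g = p ∧ ∀ ω : Ω, g • ω ≠ ω := by
  let P : Sylow p G := default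
  have hne : Nonempty Ω := (Nat.card_pos_iff.mp (by rw [hΩ]; exact pow_pos hp.out.pos k)).1
  obtain ⟨a⟩ := hne
  have h := card_dvd_index_mul (P : Subgroup G) a
  rw [hΩ] at h
  have hdvd := ((hp.out.coprime_iff_not_dvd.mpr P.not_dvd_index).pow_left k).dvd_of_dvd_mul_left h
  rw [MulAction.index_stabilizer] at hdvd
  have horb : MulAction.orbit P a = Set.univ := by
    rw [Set.eq_univ_iff_ncard, hΩ]
    apply le_antisymm
    · rw [← hΩ]; exact Set.ncard_le_card _
    · exact Nat.le_of_dvd ((Set.ncard_pos (Set.toFinite _)).mpr (MulAction.nonempty_orbit a)) hdvd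
  have : MulAction.IsPretransitive P Ω := MulAction.IsPretransitive.mk fun x y => by
    obtain ⟨g, hg⟩ : x ∈ MulAction.orbit P a := horb ▸ Set.mem_univ x
    obtain ⟨h, hh⟩ : y ∈ MulAction.orbit P a := horb ▸ Set.mem_univ y
    exact ⟨h * g⁻¹, by
      rw [mul_smul, ← hg]
      show h • g⁻¹ • g • a = y
      rw [inv_smul_smul]; exact hh⟩
  have : Nontrivial P := by
    by_contra hn
    rw [not_nontrivial_iff_subsingleton] at hn
    have : MulAction.orbit P a = {a} := by
      ext x; constructor
      · rintro ⟨g, rfl⟩; simp [Subsingleton.elim g 1]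
      · rintro rfl; exact MulAction.mem_orbit_self _
    rw [this, Set.ncard_singleton] at hdvd
    exact absurd (Nat.le_of_dvd one_pos hdvd) (not_le.mpr (Nat.one_lt_pow (by omega) hp.out.one_lt))
  obtain ⟨g, hg, hg'⟩ := exists_fpf_of_pGroup_transitive (G := P) (Ω := Ω) p P.isPGroup'
  exact ⟨g.1, by rw [Subgroup.orderOf_coe, hg], fun ω => hg' ω⟩

theorem exists_fpf_mul_prime [Finite G] [FaithfulSMul G Ω] [Finite Ω] [MulAction.IsPretransitive G Ω]
    (p m : ℕ) [hp : Fact p.Prime] (hm : 1 ≤ m) (hmp : m ≤ p) (hΩ : Nat.card Ω = m * p) :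
    ∃ g : G, orderOf g = p ∧ ∀ ω : Ω, g • ω ≠ ω := by
  classical
  have : Fintype G := Fintype.ofFinite G
  have : Fintype Ω := Fintype.ofFinite Ω
  by_cases hsq : m = p
  · exact exists_fpf_prime_pow p 2 (by omega) (by rw [hΩ, hsq, sq])
  have hlt : m < p := lt_of_le_of_ne hmp hsq
  let P : Sylow p G := default
  have hidx : ∀ ω : Ω, (MulAction.stabilizer P ω).index = p := by
    intro ω
    have h := card_dvd_index_mul (P : Subgroup G) ω
    rw [hΩ] at h
    have hp' : p ∣ (MulAction.stabilizer P ω).index :=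
      (hp.out.coprime_iff_not_dvd.mpr P.not_dvd_index).dvd_of_dvd_mul_left (dvd_trans (Dvd.intro_left _ rfl) h)
    obtain ⟨j, hj⟩ := P.isPGroup'.index (MulAction.stabilizer P ω)
    have hle : (MulAction.stabilizer P ω).index ≤ m * p := by
      rw [MulAction.index_stabilizer, ← hΩ]
      exact Set.ncard_le_card _
    rw [hj] at hle hp' ⊢
    rcases j with _ | _ | j
    · simp at hp'
      exact absurd hp' hp.out.ne_one
    · simp
    · have : p ^ 2 ≤ p ^ (j + 1 + 1) := Nat.pow_le_pow_right hp.out.pos (by omega)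
      have : m * p < p ^ 2 := by rw [sq]; exact Nat.mul_lt_mul_of_pos_right hlt hp.out.pos
      omega
  have hnormal : ∀ ω : Ω, (MulAction.stabilizer P ω).Normal := by
    intro ω
    refine Subgroup.normal_of_index_eq_minFac_card ?_
    obtain ⟨j, hj⟩ := (IsPGroup.iff_card (p := p)).mp P.isPGroup'
    rw [hidx, hj]
    rcases Nat.eq_zero_or_pos j with h0 | h0
    · have := Subgroup.index_dvd_card (MulAction.stabilizer P ω)
      rw [hidx, hj, h0, pow_zero] at this
      exact absurd (Nat.dvd_one.mp this) hp.out.ne_one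
    · rw [hp.out.pow_minFac (by omega)]
  -- union of the stabilisers misses some element
  let Q := Quotient (MulAction.orbitRel P Ω)
  have hQ : Fintype.card Q ≤ m := by
    have e := MulAction.selfEquivSigmaOrbitsQuotientStabilizer P Ω
    have h := Nat.card_congr e
    rw [Nat.card_sigma, hΩ] at h
    have h' : ∀ q : Q, Nat.card (P ⧸ MulAction.stabilizer P q.out) = p := fun q => hidx _
    rw [Finset.sum_congr rfl (fun q _ => h' q), Finset.sum_const, Finset.card_univ, smul_eq_mul] at h
    exact le_of_eq (Nat.eq_of_mul_eq_mul_right hp.out.pos h).symm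
  let U : Finset P := (Finset.univ : Finset Q).biUnion fun q =>
    (Finset.univ.filter fun g : P => g ∈ MulAction.stabilizer P q.out).erase 1
  have hPc : 0 < Fintype.card P := Fintype.card_pos
  have hU : U.card + 1 < Fintype.card P := by
    have hs : ∀ q : Q, ((Finset.univ.filter fun g : P => g ∈ MulAction.stabilizer P q.out).erase 1).card * p
        = Fintype.card P - p := by
      intro q
      have := Subgroup.card_mul_index (MulAction.stabilizer P q.out)
      rw [hidx, Nat.card_eq_fintype_card, Nat.card_eq_fintype_card] at this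
      rw [Finset.card_erase_of_mem (by simp [one_mem]), ← Fintype.card_subtype, Nat.sub_mul, one_mul]
      exact congrArg (· - p) this
    have hb : U.card * p ≤ m * (Fintype.card P - p) := by
      calc U.card * p ≤ (∑ q : Q, ((Finset.univ.filter fun g : P => g ∈ MulAction.stabilizer P q.out).erase 1).card) * p :=
            Nat.mul_le_mul_right _ Finset.card_biUnion_le
        _ = Fintype.card Q * (Fintype.card P - p) := by
            rw [Finset.sum_mul, Finset.sum_congr rfl (fun q _ => hs q), Finset.sum_const, Finset.card_univ, smul_eq_mul]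
        _ ≤ m * (Fintype.card P - p) := Nat.mul_le_mul_right _ hQ
    have hpP : p ≤ Fintype.card P := by
      obtain ⟨a⟩ : Nonempty Ω := (Nat.card_pos_iff.mp (by rw [hΩ]; exact Nat.mul_pos hm hp.out.pos)).1
      have h := Nat.le_of_dvd Nat.card_pos (Subgroup.index_dvd_card (MulAction.stabilizer P a))
      rwa [hidx, Nat.card_eq_fintype_card] at h
    by_contra hc
    have : Fintype.card P * p ≤ U.card * p + 1 * p := by
      rw [← Nat.add_mul]; exact Nat.mul_le_mul_right _ (not_lt.mp hc)
    have : m * (Fintype.card P - p) ≤ (p - 1) * (Fintype.card P - p) := Nat.mul_le_mul_right _ (by omega)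
    obtain ⟨c, hc'⟩ := Nat.exists_eq_add_of_le hpP
    have hp2 := hp.out.two_le
    obtain ⟨p', rfl⟩ : ∃ p', p = p' + 1 := ⟨p - 1, by omega⟩
    simp only [hc', Nat.add_sub_cancel_left, Nat.add_sub_cancel] at *
    nlinarith
  obtain ⟨g, hg⟩ : ∃ g : P, g ∉ insert 1 U := by
    by_contra hc
    push Not at hc
    have : Fintype.card P ≤ (insert 1 U).card := by
      rw [← Finset.card_univ]; exact Finset.card_le_card fun x _ => hc x
    have := Finset.card_insert_le (1 : P) U
    omega
  rw [Finset.mem_insert, not_or] at hg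
  have hout : ∀ ω : Ω, g ∉ MulAction.stabilizer P ω := by
    intro ω hgω
    apply hg.2
    refine Finset.mem_biUnion.mpr ⟨Quotient.mk'' ω, Finset.mem_univ _,
      Finset.mem_erase.mpr ⟨hg.1, Finset.mem_filter.mpr ⟨Finset.mem_univ _, ?_⟩⟩⟩
    have h := Quotient.exact' (Quotient.out_eq' (Quotient.mk'' ω : Q))
    rw [MulAction.orbitRel_apply, MulAction.mem_orbit_iff] at h
    obtain ⟨x, hx⟩ := h
    rw [← hx, MulAction.stabilizer_smul_eq_stabilizer_map_conj]
    refine ⟨x⁻¹ * g * x, ?_, ?_⟩
    · have := (hnormal ω).conj_mem g hgω x⁻¹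
      rwa [inv_inv] at this
    · simp [mul_assoc]
  have hgp : g ^ p = 1 := by
    apply FaithfulSMul.eq_of_smul_eq_smul (α := Ω)
    intro ω
    rw [one_smul]
    have : g ^ (MulAction.stabilizer P ω).index ∈ MulAction.stabilizer P ω :=
      Subgroup.pow_index_mem _ g
    rwa [hidx] at this
  refine ⟨g.1, ?_, fun ω hω => hout ω hω⟩
  rw [Subgroup.orderOf_coe]
  exact orderOf_eq_prime hgp hg.1

end CfsgLib.PermFpf
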